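import Cfsg.Agent.Lib.Helper35.TitsPOrd.U1.Check
import Cfsg.Agent.Lib.Helper35.TitsPOrd.U2.Check
import Cfsg.Agent.Lib.Helper35.TitsPOrd.U3.Check
import Cfsg.Agent.Lib.Helper35.TitsPOrd.Y0.Check
import Cfsg.Agent.Lib.Helper35.TitsPOrd.X0.Fin
import Cfsg.Agent.Lib.Helper35.TitsP1755.Check
import Cfsg.Agent.Lib.Helper35.Simple4

namespace Cfsg.Agent.Lib.Helper35.TitsPOrd

open Cfsg.Agent.Lib.Helper35 Cfsg.Spor

set_option maxRecDepth 100000

noncomputable def I : PresIface TitsP := coxIface TitsP.edges TitsP.extra PresTitsP.cc PresTitsP.extraL PresTitsP.R PresTitsP.allGens PresTitsP.hall PresTitsP.hOK PresTitsP.hextra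
theorem up4 : Finite (wsub I.val ([] : List (List Nat))) ∧ Nat.card (wsub I.val ([] : List (List Nat))) ≤ 1 := upper_nil I.val
theorem up3 : Finite (wsub I.val [[1]]) ∧ Nat.card (wsub I.val [[1]]) ≤ 2 :=
  upper_cons 2 1 2 up4 (fun hf => card_upper_step I.val I.inv I.hinv [[1]] ([] : List (List Nat)) U3.invL U3.R U3.S 2
    (by decide +kernel) (by decide +kernel)
    (fun b hb => I.hR _ ((by decide +kernel : ∀ b ∈ U3.R, expand [[1]] b ∈ PresTitsP.R) b hb))
    (by decide +kernel) U3.certData hf) (by decide +kernel)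
theorem up2 : Finite (wsub I.val [[0], [1]]) ∧ Nat.card (wsub I.val [[0], [1]]) ≤ 10 :=
  upper_cons 5 2 10 up3 (fun hf => card_upper_step I.val I.inv I.hinv [[0], [1]] [[1]] U2.invL U2.R U2.S 5
    (by decide +kernel) (by decide +kernel)
    (fun b hb => I.hR _ ((by decide +kernel : ∀ b ∈ U2.R, expand [[0], [1]] b ∈ PresTitsP.R) b hb))
    (by decide +kernel) U2.certData hf) (by decide +kernel)
theorem up1 : Finite (wsub I.val [[0], [1], [2], [3], [4]]) ∧ Nat.card (wsub I.val [[0], [1], [2], [3], [4]]) ≤ 10240 :=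
  upper_cons 1024 10 10240 up2 (fun hf => card_upper_step I.val I.inv I.hinv [[0], [1], [2], [3], [4]] [[0], [1]] U1.invL U1.R U1.S 1024
    (by decide +kernel) (by decide +kernel)
    (fun b hb => I.hR _ ((by decide +kernel : ∀ b ∈ U1.R, expand [[0], [1], [2], [3], [4]] b ∈ PresTitsP.R) b hb))
    (by decide +kernel) U1.certData hf) (by decide +kernel)
theorem up1' : Finite (wsub I.val [[0], [1], [2], [4]]) ∧ Nat.card (wsub I.val [[0], [1], [2], [4]]) ≤ 10240 := by
  have hle := wsub_mono I.val [[0], [1], [2], [3], [4]] [[0], [1], [2], [4]] (by decide +kernel)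
  haveI := up1.1
  exact ⟨Finite.of_injective (Subgroup.inclusion hle) (Subgroup.inclusion_injective hle),
    le_trans (Subgroup.card_le_of_le hle) up1.2⟩
theorem up0 : Finite (wsub I.val [[0], [1], [2], [3], [4], [5]]) ∧ Nat.card (wsub I.val [[0], [1], [2], [3], [4], [5]]) ≤ 17971200 :=
  upper_cons 1755 10240 17971200 up1' (fun hf => card_upper_step I.val I.inv I.hinv [[0], [1], [2], [3], [4], [5]] [[0], [1], [2], [4]] PresTitsP.cc.invL PresTitsP.R TitsP1755.S 1755
    (by decide +kernel) (by decide +kernel)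
    (fun b hb => I.hR _ ((by decide +kernel : ∀ b ∈ PresTitsP.R, expand [[0], [1], [2], [3], [4], [5]] b ∈ PresTitsP.R) b hb))
    (by decide +kernel) TitsP1755.certData hf) (by decide +kernel)
noncomputable abbrev pv2 := TitsP1755.permData.pv
theorem lo3 : 1 ≤ Nat.card (wsub pv2 ([] : List (List Nat))) := lower_nil pv2
theorem lo2 : 10 ≤ Nat.card (wsub pv2 [[0], [1]]) :=
  lower_cons 10 1 10 lo3 (card_lower_step pv2 [[0], [1]] ([] : List (List Nat)) (by decide +kernel) 1754 (MonoidHom.id _) TitsP1755.pt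
    (fun s hs i => walk_of_hom pv2 TitsP1755.permData (MonoidHom.id _) (fun _ => rfl) s ((by decide +kernel : ∀ s ∈ ([[0], [1]] : List (List Nat)), ∀ c ∈ s, c < PresTitsP.cc.C) s hs) i)
    1459 10 (by decide +kernel) X0.reach2 X0.fix2) (by decide +kernel)
theorem lo1 : 10240 ≤ Nat.card (wsub pv2 [[0], [1], [2], [3], [4]]) :=
  lower_cons 1024 10 10240 lo2 (card_lower_step pv2 [[0], [1], [2], [3], [4]] [[0], [1]] (by decide +kernel) 1754 (MonoidHom.id _) TitsP1755.pt
    (fun s hs i => walk_of_hom pv2 TitsP1755.permData (MonoidHom.id _) (fun _ => rfl) s ((by decide +kernel : ∀ s ∈ ([[0], [1], [2], [3], [4]] : List (List Nat)), ∀ c ∈ s, c < PresTitsP.cc.C) s hs) i)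
    1477 1024 (by decide +kernel) X0.reach1 X0.fix1) (by decide +kernel)
theorem lo0 : 17971200 ≤ Nat.card (wsub pv2 [[0], [1], [2], [3], [4], [5]]) :=
  lower_cons 1755 10240 17971200 lo1 (card_lower_step pv2 [[0], [1], [2], [3], [4], [5]] [[0], [1], [2], [3], [4]] (by decide +kernel) 1754 (MonoidHom.id _) TitsP1755.pt
    (fun s hs i => walk_of_hom pv2 TitsP1755.permData (MonoidHom.id _) (fun _ => rfl) s ((by decide +kernel : ∀ s ∈ ([[0], [1], [2], [3], [4], [5]] : List (List Nat)), ∀ c ∈ s, c < PresTitsP.cc.C) s hs) i)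
    0 1755 (by decide +kernel) X0.reach0 X0.fix0) (by decide +kernel)
def cnt0 : Nat → Nat := fun k => ([1, 1024, 80, 640, 10] : List Nat).getD k 0
noncomputable def prim0 : PrimData TitsP1755.permData 17971200 where
  O := TitsP1755.orbData
  r := 5
  cnt := cnt0
  hcnt := by
    intro k hk
    interval_cases k
    exacts [TitsP1755.ocnt0, TitsP1755.ocnt1, TitsP1755.ocnt2, TitsP1755.ocnt3, TitsP1755.ocnt4]
  hsum := by decide +kernel
  hnum := by decide +kernel
  p := 13
  hp := by norm_num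
  yw := Y0.yw
  hyC := by decide +kernel
  hnd := by decide +kernel
  col := Y0.certData
theorem main : IsSimpleGroup TitsP ∧ Nat.card TitsP = 17971200 :=
  simple_of_one I TitsP1755.permData 17971200 (by decide +kernel) up0 lo0 prim0 X0.yfix0

end Cfsg.Agent.Lib.Helper35.TitsPOrd
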